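import Groth.Agent.MultExtLib.Main
import Groth.Agent.BorelLib.MultClosed
import Groth.Agent.MultFinLib.Kill

/-!
# Flat closed subgroups of groups of multiplicative type
-/

set_option autoImplicit false
set_option linter.style.haveILetI false
set_option linter.unusedSectionVars false
set_option backward.isDefEq.respectTransparency false
set_option maxHeartbeats 1000000
set_option synthInstance.maxHeartbeats 400000

universe u

open CategoryTheory CategoryTheory.Limits MonoidalCategory CartesianMonoidalCategory AlgebraicGeometry CoactBr WithConv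
open scoped MonObj TensorProduct

noncomputable section

attribute [-instance] CategoryTheory.Hom.commGroup
attribute [local instance] CoactBr.braidedAlgSpecOf

namespace Groth.Agent.MultClosed

section Hopf

variable {R : Type u} [CommRing R] {D A : Type u} [CommRing D] [HopfAlgebra R D] [CommRing A] [HopfAlgebra R A]

theorem powConv_natural (φ : D →ₐc[R] A) (n : ℕ) :
    (φ : D →ₐ[R] A).comp (SGA3b.powConv R D n) = (SGA3b.powConv R A n).comp (φ : D →ₐ[R] A) := by
  apply WithConv.toConv_injective
  rw [MultFin.comp_powConv']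
  induction n with
  | zero =>
    rw [pow_zero, SGA3b.powConv, pow_zero, AlgHom.convOne_def, AlgHom.convOne_def, ofConv_toConv]
    congr 1
    exact AlgHom.ext fun a => by simp
  | succ n ih =>
    rw [SGA3b.powConv, pow_succ, pow_succ, AlgHom.convMul_comp_bialgHom_distrib, ← SGA3b.powConv, ← ih]
    simp

theorem torsionIdeal_map_le (φ : D →ₐc[R] A) (n : ℕ) :
    (SGA3b.torsionIdeal R D n).map (φ : D →ₐ[R] A) ≤ SGA3b.torsionIdeal R A n := by
  rw [SGA3b.torsionIdeal, Ideal.map_le_iff_le_comap, Ideal.map_le_iff_le_comap]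
  intro d hd
  have h := DFunLike.congr_fun (powConv_natural φ n) d
  simp only [AlgHom.comp_apply] at h
  rw [Ideal.mem_comap, Ideal.mem_comap, h]
  refine Ideal.mem_map_of_mem _ ?_
  show Coalgebra.counit (R := R) ((φ : D →ₐ[R] A) d) = 0
  rw [← show Coalgebra.counit (R := R) d = 0 from hd]
  exact CoalgHomClass.counit_comp_apply φ d

theorem finite_torsion_of_surjective (φ : D →ₐc[R] A) (hφ : Function.Surjective φ) (n : ℕ)
    [Module.Finite R (D ⧸ SGA3b.torsionIdeal R D n)] : Module.Finite R (A ⧸ SGA3b.torsionIdeal R A n) := by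
  let q : (D ⧸ SGA3b.torsionIdeal R D n) →ₐ[R] (A ⧸ SGA3b.torsionIdeal R A n) :=
    Ideal.quotientMapₐ _ (φ : D →ₐ[R] A) (Ideal.map_le_iff_le_comap.1 (torsionIdeal_map_le φ n))
  refine Module.Finite.of_surjective q.toLinearMap fun z => ?_
  obtain ⟨a, rfl⟩ := Ideal.Quotient.mk_surjective z
  obtain ⟨d, rfl⟩ := hφ a
  exact ⟨Ideal.Quotient.mk _ d, rfl⟩

theorem isCocomm_of_surjective [Coalgebra.IsCocomm R D] (φ : D →ₐc[R] A) (hφ : Function.Surjective φ) :
    Coalgebra.IsCocomm R A := by
  refine ⟨LinearMap.ext fun a => ?_⟩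
  obtain ⟨d, rfl⟩ := hφ a
  show TensorProduct.comm R A A (Coalgebra.comul (R := R) (φ d)) = Coalgebra.comul (R := R) (φ d)
  rw [← CoalgHomClass.map_comp_comul_apply]
  conv_rhs => rw [← Coalgebra.comm_comul (R := R) d]
  generalize Coalgebra.comul (R := R) d = t
  induction t using TensorProduct.induction_on with
  | zero => simp
  | add x y hx hy => simp only [map_add, hx, hy]
  | tmul x y => simp

end Hopf

theorem isMultTypeFT_of_closed_affine {R : Type u} [CommRing R] {H T : Over (Spec (CommRingCat.of R))} [GrpObj H]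
    [GrpObj T] (hT : SGA3x.IsMultTypeFT T) (i : H ⟶ T) [IsMonHom i] [IsClosedImmersion i.left] [Flat H.hom]
    [LocallyOfFinitePresentation H.hom] : SGA3x.IsMultTypeFT H := by
  haveI := MultEq.isAffineHom_of_isMultTypeFT hT
  haveI := MultEq.lfp_of_isMultTypeFT hT
  haveI : IsAffine T.left := isAffine_of_isAffineHom T.hom
  haveI : IsAffine H.left := isAffine_of_isAffineHom i.left
  obtain ⟨D, _, _, v, hv, hv'⟩ := HomCorr.exists_hopf T
  haveI := hv; haveI := hv'
  obtain ⟨A, _, _, w, hw, hw'⟩ := HomCorr.exists_hopf H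
  haveI := hw; haveI := hw'
  haveI : IsIso w.hom.left := (Over.forget _).map_isIso w.hom
  haveI : IsIso v.hom.left := (Over.forget _).map_isIso v.hom
  haveI : IsIso v.inv.left := (Over.forget _).map_isIso v.inv
  obtain ⟨φ, hφ⟩ := DiagRep.exists_pt (w.hom ≫ i ≫ v.inv)
  haveI : IsMonHom (pt φ) := hφ ▸ inferInstance
  have hcl : IsClosedImmersion (pt φ).left := by
    rw [← hφ, Over.comp_left, Over.comp_left]; infer_instance
  have hsurj : Function.Surjective φ := DiagRep.surjective_of_isClosedImmersion φ hcl
  have hcomul : (Algebra.TensorProduct.map φ φ).comp (Bialgebra.comulAlgHom R D) =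
      (Bialgebra.comulAlgHom R A).comp φ := by
    refine AlgHom.ext fun a => ?_
    have h := congrArg (fun x : WithConv (D →ₐ[R] A ⊗[R] A) => x a) (DiagRep.comul_comp_of_isMonHom φ)
    simp only [AlgHom.convMul_apply] at h
    refine Eq.trans ?_ h.symm
    show Algebra.TensorProduct.map φ φ (CoalgebraStruct.comul (R := R) a) = _
    generalize CoalgebraStruct.comul (R := R) a = t
    induction t using TensorProduct.induction_on with
    | zero => simp
    | add x y hx hy => simp only [map_add, hx, hy]
    | tmul x y => simp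
  let φc : D →ₐc[R] A := BialgHom.ofAlgHom φ (DiagRep.counit_comp_of_isMonHom φ) hcomul
  have hD : SGA3b.IsMultType R D := HomCorr.isMultType_of_locally v.hom (Transporter.locally_of_isMultTypeFT hT)
  haveI : Algebra.FiniteType R D := by
    have h : LocallyOfFiniteType (sp R D).hom := by rw [← Over.w v.hom]; infer_instance
    change LocallyOfFiniteType (Spec.map (CommRingCat.ofHom (algebraMap R D))) at h
    rwa [HasRingHomProperty.Spec_iff (P := @LocallyOfFiniteType), CommRingCat.hom_ofHom,
      RingHom.finiteType_algebraMap] at h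
  haveI hfp : Algebra.FinitePresentation R A := by
    have h : LocallyOfFinitePresentation (sp R A).hom := by rw [← Over.w w.hom]; infer_instance
    change LocallyOfFinitePresentation (Spec.map (CommRingCat.ofHom (algebraMap R A))) at h
    rwa [HasRingHomProperty.Spec_iff (P := @LocallyOfFinitePresentation), CommRingCat.hom_ofHom,
      RingHom.finitePresentation_algebraMap] at h
  haveI : Module.Flat R A := by
    have h : Flat (sp R A).hom := by rw [← Over.w w.hom]; infer_instance
    change Flat (Spec.map (CommRingCat.ofHom (algebraMap R A))) at h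
    rwa [HasRingHomProperty.Spec_iff (P := @Flat), CommRingCat.hom_ofHom, RingHom.flat_algebraMap_iff] at h
  haveI : Coalgebra.IsCocomm R D := FinMult.isCocomm_of_isMultType hD
  haveI : Coalgebra.IsCocomm R A := isCocomm_of_surjective φc hsurj
  have hfib : ∀ (q : Ideal R) [q.IsPrime], SGA3b.IsMultType q.ResidueField (q.ResidueField ⊗[R] A) := by
    intro q _
    let b := DiagRep.baseHom R q.ResidueField
    haveI : IsMonHom (M := Red.bc b H) (N := Red.bc b T) ((Over.pullback b).map i) := DiagRep.isMonHom_bc_map b i
    haveI : IsClosedImmersion ((Over.pullback b).map i).left :=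
      MorphismProperty.of_isPullback (PowEtCentralLib.isPullback_map_left b i) ‹_›
    have hH := BorelLib.isMultTypeFT_of_closed (K := Red.bc b H) (T := Red.bc b T) (DescHom.isMultTypeFT_bc hT b)
      ((Over.pullback b).map i)
    haveI : IsMonHom (M := Red.bc b (sp R A)) (N := Red.bc b H) ((Over.pullback b).map w.hom) :=
      DiagRep.isMonHom_bc_map b w.hom
    haveI : IsMonHom (asIso (DiagRep.bcHom R q.ResidueField A)).hom := DiagRep.isMonHom_bcHom R q.ResidueField A
    let z : sp q.ResidueField (q.ResidueField ⊗[R] A) ⟶ Red.bc b H :=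
      (asIso (DiagRep.bcHom R q.ResidueField A)).inv ≫ (Over.pullback b).map w.hom
    haveI : IsMonHom z := inferInstanceAs (IsMonHom ((asIso (DiagRep.bcHom R q.ResidueField A)).inv ≫ (Over.pullback b).map w.hom))
    haveI : IsIso z := inferInstanceAs (IsIso ((asIso (DiagRep.bcHom R q.ResidueField A)).inv ≫ (Over.pullback b).map w.hom))
    exact HomCorr.isMultType_of_locally z (Transporter.locally_of_isMultTypeFT hH)
  have hA : SGA3b.IsMultType R A := Groth.Agent.S5264.result R A hfp hfib fun n hn => by
    haveI : (SGA3b.torsionIdeal R D n).IsHopfIdeal R := FinMult.isHopfIdeal_torsionIdeal n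
    haveI := (Groth.Agent.S5242.result R D inferInstance hD n hn _ rfl).2
    exact finite_torsion_of_surjective φc hsurj n
  exact HomCorr.isMultTypeFT_of_isMultType w.hom hA

/-- A flat closed subgroup of finite presentation of a group of multiplicative type is of multiplicative type. -/
theorem isMultTypeFT_of_closed {S : Scheme.{u}} (H T : Over S) [GrpObj H] [GrpObj T] (hT : SGA3x.IsMultTypeFT T)
    (i : H ⟶ T) [IsMonHom i] [IsClosedImmersion i.left] [Flat H.hom] [LocallyOfFinitePresentation H.hom] :
    SGA3x.IsMultTypeFT H := by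
  refine MultExt.isMultTypeFT_of_affineOpens H fun U => ?_
  haveI : IsAffine (U : S.Opens) := U.2
  let τ := (U : S.Opens).toScheme.isoSpec
  let b : Spec (CommRingCat.of Γ((U : S.Opens).toScheme, ⊤)) ⟶ S := τ.inv ≫ (U : S.Opens).ι
  haveI : IsMonHom (M := Red.bc b H) (N := Red.bc b T) ((Over.pullback b).map i) := DiagRep.isMonHom_bc_map b i
  haveI : IsClosedImmersion ((Over.pullback b).map i).left :=
    MorphismProperty.of_isPullback (PowEtCentralLib.isPullback_map_left b i) ‹_›
  haveI : Flat (Red.bc b H).hom := inferInstanceAs (Flat (pullback.snd H.hom b))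
  haveI : LocallyOfFinitePresentation (Red.bc b H).hom :=
    inferInstanceAs (LocallyOfFinitePresentation (pullback.snd H.hom b))
  have h := isMultTypeFT_of_closed_affine (H := Red.bc b H) (DescHom.isMultTypeFT_bc hT b) ((Over.pullback b).map i)
  let β : Red.bc τ.inv (Red.bc (U : S.Opens).ι H) ≅ Red.bc b H := ActBC.bcCompIso τ.inv _ H rfl
  haveI : IsMonHom β.hom := ActBC.bcCompIso_isMonHom _ _ _
  exact CentreDesc.isMultTypeFT_of_bc τ.inv
    (fun V hV => ⟨τ.inv ⁻¹ᵁ V, τ.inv.isCompact_preimage hV.isCompact, Set.image_preimage_eq _ τ.inv.surjective⟩) β h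

end Groth.Agent.MultClosed
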